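import Cfsg.Agent.H174.Ore.DegTh
import Cfsg.Agent.H65.Ore.Sieve

/-!
# S4173, row `Th`: the class product sieve at 31 and 19 (helper980)

* 4200 is no degree (the Sylow 5-subgroup has order 125 and its nontrivial elements are conjugate);
* `prd_of_card` : `x` of order 31, `y` of order 19, `|C(g)| ≤ 14019231` : `g` is a product of a conjugate of `x` and a
  conjugate of `y`.
-/

set_option autoImplicit false
set_option maxRecDepth 100000

namespace Cfsg.Agent.H980.TC.Th

open Cfsg Subgroup Cfsg.Agent.H511.Ore Cfsg.Agent.H174.Ore Cfsg.Agent.H174.Ore.Th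
open Cfsg.Agent.H653.Sieve Cfsg.Agent.H651.Two Cfsg.Agent.H777.Ore Cfsg.Agent.H65.Ore

/-- **4200 is not a degree.** -/
theorem noDeg' : NoDeg Spor.Th [4200] := by
  have := H174.Ore.Th.finite
  have := H174.Ore.Th.simple
  intro χ hχ
  obtain ⟨_, x, y, z, a, D⟩ := H49.ThFive.exists_dat
  simp only [List.mem_cons, List.not_mem_nil, or_false] at hχ
  have hne : (χ : Spor.Th → ℂ) ≠ 1 := by
    intro h
    rw [h] at hχ
    have : charDegree (1 : Spor.Th → ℂ) = 1 := by
      unfold charDegree
      simp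
    rw [this] at hχ
    norm_num at hχ
  obtain ⟨b, hb1, hb2, hb⟩ := fused_val (S := H49.ThFive.PP x y z) (by rw [D.card_P]; norm_num) (z := z)
    (fun u hu hu1 => isConj_iff.2 (D.conj_z hu hu1)) hne
  rw [D.card_P, hχ] at hb hb2
  have hc : Nat.card (centralizer ({z} : Set Spor.Th)) ≤ 3000 := D.card_C.le
  have h2 := sq_le hb hc
  have h3 : b ≤ 33 := by omega
  have h4 : (b : ℤ) ≤ 33 := by exact_mod_cast h3
  push_cast at h2
  nlinarith

/-- degrees prime to 31 and 19 -/
def pT (d : ℕ) : Bool := !Nat.beq (d % 31) 0 && !Nat.beq (d % 19) 0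

theorem degT : DegOn Spor.Th pT 27000 := by
  have := H174.Ore.Th.finite
  have := H174.Ore.Th.simple
  exact degOn_of_check nonab 90745943887872000 card fac chk2 chk3 cd chk1 has minDeg_zero noDeg' (by decide +kernel)

theorem sc31 : SC Spor.Th 31 143 := by
  have := H174.Ore.Th.finite
  have := H174.Ore.Th.simple
  obtain ⟨f, hf⟩ := exists_emb
  obtain ⟨x, hx⟩ := exists_ord (r := 31) (by norm_num) (by norm_num)
  exact sc_of nonab (by norm_num) card hx (H829.Pw.th_cent31 hf hx) 15 2 143 (by decide +kernel)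

theorem sc19 : SC Spor.Th 19 19 := by
  have := H174.Ore.Th.finite
  have := H174.Ore.Th.simple
  obtain ⟨f, hf⟩ := exists_emb
  obtain ⟨x, hx⟩ := exists_ord (r := 19) (by norm_num) (by norm_num)
  exact sc_of nonab (by norm_num) card hx (H829.Pw.th_cent19 hf hx).1 18 1 19 (by decide +kernel)

/-- **The class product sieve.** -/
theorem prd_of_card {x y g : Spor.Th} (hx : orderOf x = 31) (hy : orderOf y = 19)
    (hg : Nat.card (centralizer ({g} : Set Spor.Th)) ≤ 14019231) : Prd x y g := by
  have := H174.Ore.Th.finite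
  refine sc31.prd_two sc19 hx hy (B := 53) (by norm_num) (d := 27000) (fun χ hχ h1 h2 => ?_) hg (by norm_num)
  refine degT χ hχ ?_
  rw [pT, Bool.and_eq_true, Bool.not_eq_true', Bool.not_eq_true', ← Bool.not_eq_true, ← Bool.not_eq_true, Nat.beq_eq,
    Nat.beq_eq]
  exact ⟨fun h => h1 (Nat.dvd_of_mod_eq_zero h), fun h => h2 (Nat.dvd_of_mod_eq_zero h)⟩

end Cfsg.Agent.H980.TC.Th
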