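import Cfsg.Agent.H980.Ore.PwThThree
import Cfsg.Agent.H980.Ore.ThLoc
import Cfsg.Agent.H444.ThWord
import Cfsg.Agent.H65.Ore.Prd

/-!
# S4173, row `Th`: explicit pairs (helper980)

`x = w31` of order 31 and `y = y19` of order 19. The involution `a`, the elements `X3`, `X33`, `X333` of order 3 and
`W9a`, `W9b` of order 9 of `C(a)` are products of a conjugate of `x` and a conjugate of `y`: kernel checks in `GL₂₄₈(3)`.
-/

set_option autoImplicit false
set_option Elab.async false
set_option maxRecDepth 100000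

namespace Cfsg.Agent.H980.TC.Th

open Subgroup Cfsg Cfsg.Agent.H964.NoHall Cfsg.Agent.H65.Ore
open Cfsg.Agent.Th.Gen248 Cfsg.Agent.Th.Hom248 Cfsg.Agent.Th.Simple19 Cfsg.Agent.Th.Final
open Cfsg.Agent.Th.IndexUpper (gTh)
open Cfsg.Agent.Th.Word (ev)
open Cfsg.Agent.CpAutTh.Data (X3 X33 X333)
open Cfsg.Agent.H980.Ore.PwTh (W9a W9b)

/-- letters -/
def ltr : ℕ → Lt
  | 1 => .a
  | 2 => .b
  | 3 => .c
  | 4 => .d
  | 5 => .e
  | 6 => .s
  | 7 => .S
  | 8 => .t
  | 9 => .T
  | 10 => .u
  | _ => .U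

theorem thE_ltr (n : ℕ) (h1 : 1 ≤ n) (h2 : n ≤ 11) : thE (.g (ltr n)) = gTh n := by
  interval_cases n <;> rfl

/-- lists of letters -/
def wn (l : List ℕ) : Wd := wl (l.map ltr)

theorem thE_wn : ∀ l : List ℕ, (∀ n ∈ l, 1 ≤ n ∧ n ≤ 11) → thE (wn l) = ev gTh l
  | [], _ => rfl
  | [x], h => by
    have h1 := h x (by simp)
    show thE (.g (ltr x)) = gTh x * 1
    rw [thE_ltr x h1.1 h1.2, mul_one]
  | x :: y :: l, h => by
    have h1 := h x (by simp)
    have ih := thE_wn (y :: l) fun n hn => h n (List.mem_cons_of_mem _ hn)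
    show thE (.g (ltr x)) * thE (wn (y :: l)) = gTh x * ev gTh (y :: l)
    rw [thE_ltr x h1.1 h1.2, ih]

/-- the element of order 31 -/
noncomputable def x31 : Spor.Th := thE H444.ThWord.wW

/-- the element of order 19 -/
noncomputable def y19 : Spor.Th := thE thW

theorem order_x : orderOf x31 = 31 := H444.ThWord.w_order
theorem order_y : orderOf y19 = 19 := thW_order

/-! ### elements of order 19 -/

theorem conj_pow_of {h : Spor.Th} {a : ℕ} (e : h * y19 = y19 ^ a * h) (m : ℕ) : h * y19 ^ m * h⁻¹ = y19 ^ (a * m) := by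
  have h1 : h * y19 * h⁻¹ = y19 ^ a := by rw [e, mul_inv_cancel_right]
  rw [← conj_pow, h1, pow_mul]

theorem isConj_pow {h : Spor.Th} {a : ℕ} (e : h * y19 = y19 ^ a * h) {m : ℕ} (hm : IsConj y19 (y19 ^ m)) :
    IsConj y19 (y19 ^ (a * m)) :=
  hm.trans (isConj_iff.2 ⟨h, conj_pow_of e m⟩)

theorem isConj_six (i : ℕ) : IsConj y19 (y19 ^ (6 ^ i)) := by
  induction i with
  | zero => rw [pow_zero, pow_one]
  | succ i ih => rw [pow_succ']; exact isConj_pow thH_conj ih

theorem isConj_all (m : ℕ) (hm : y19 ^ m ≠ 1) : IsConj y19 (y19 ^ m) := by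
  have h1 : y19 ^ m = y19 ^ (m % 19) := by rw [← order_y, pow_mod_orderOf]
  rw [h1] at hm ⊢
  have h2 : m % 19 < 19 := Nat.mod_lt _ (by norm_num)
  generalize m % 19 = k at hm h2 ⊢
  have key : ∀ k < 19, k ≠ 0 → (∃ i < 9, 6 ^ i % 19 = k) ∨ ∃ i < 9, 18 * 6 ^ i % 19 = k := by decide
  have hk : k ≠ 0 := by
    rintro rfl
    exact hm (pow_zero _)
  have hp : ∀ n, y19 ^ n = y19 ^ (n % 19) := fun n => by rw [← order_y, pow_mod_orderOf]
  rcases key k h2 hk with ⟨i, -, hi⟩ | ⟨i, -, hi⟩
  · rw [← hi, ← hp]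
    exact isConj_six i
  · rw [← hi, ← hp]
    exact isConj_pow thA_conj (isConj_six i)

/-- **the elements of order 19 are conjugate** -/
theorem conj_nineteen {v : Spor.Th} (hv : orderOf v = 19) : ∃ k : Spor.Th, v = k * y19 * k⁻¹ := by
  have : Finite Spor.Th := Nat.finite_of_card_ne_zero (by rw [card_Th]; norm_num)
  have : Fact (Nat.Prime 19) := ⟨by norm_num⟩
  have hf : (Nat.card Spor.Th).factorization 19 = 1 := by
    rw [card_Th, show (90745943887872000 : ℕ) = 19 * 4776102309888000 by norm_num,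
      Nat.factorization_mul (by norm_num) (by norm_num), Finsupp.add_apply,
      Nat.Prime.factorization_self (by norm_num), Nat.factorization_eq_zero_of_not_dvd (by norm_num)]
  obtain ⟨g, m, e⟩ := Cfsg.Agent.H980.Ore.ThLoc.exists_conj_pow hf order_y hv
  rw [conj_pow] at e
  have hm : y19 ^ m ≠ 1 := by
    intro h1
    rw [h1, mul_one, mul_inv_cancel] at e
    rw [e, orderOf_one] at hv
    norm_num at hv
  obtain ⟨k, hk⟩ := isConj_iff.1 (isConj_all m hm)
  refine ⟨g * k, ?_⟩
  rw [e, ← hk]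
  group

/-! ### the pairs -/

/-- the second factor -/
def V (h t : List ℕ) : Wd := .mul (.mul (.mul (wn h) (.inv H444.ThWord.wW)) (.inv (wn h))) (wn t)

theorem thE_inv (w : Wd) : thE (.inv w) = (thE w)⁻¹ := rfl

theorem prd_of {h t : List ℕ} (ht : ∀ n ∈ t, 1 ≤ n ∧ n ≤ 11)
    (h1 : Nat.beq (evN false (p19 (V h t))) (evN false .one) = true)
    (h2 : Nat.beq (evN false (V h t)) (evN false .one) = false) : Prd x31 y19 (ev gTh t) := by
  have h3 : orderOf (thE (V h t)) = 19 := order19 rho_injective h1 h2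
  obtain ⟨k, hk⟩ := conj_nineteen h3
  refine ⟨thE (wn h), k, ?_⟩
  rw [← hk, V, thE_mul, thE_mul, thE_mul, thE_inv, thE_inv, thE_wn t ht, x31]
  group

theorem ka : Nat.beq (evN false (p19 (V [2, 1, 3, 4] [1]))) (evN false .one) = true := by decide +kernel
theorem na : Nat.beq (evN false (V [2, 1, 3, 4] [1])) (evN false .one) = false := by decide +kernel
theorem k3 : Nat.beq (evN false (p19 (V [2, 10] X3))) (evN false .one) = true := by decide +kernel
theorem n3 : Nat.beq (evN false (V [2, 10] X3)) (evN false .one) = false := by decide +kernel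
theorem k33 : Nat.beq (evN false (p19 (V [6, 5, 4] X33))) (evN false .one) = true := by decide +kernel
theorem n33 : Nat.beq (evN false (V [6, 5, 4] X33)) (evN false .one) = false := by decide +kernel
theorem k333 : Nat.beq (evN false (p19 (V [3, 2, 1] X333))) (evN false .one) = true := by decide +kernel
theorem n333 : Nat.beq (evN false (V [3, 2, 1] X333)) (evN false .one) = false := by decide +kernel
theorem k9a : Nat.beq (evN false (p19 (V [4] W9a))) (evN false .one) = true := by decide +kernel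
theorem n9a : Nat.beq (evN false (V [4] W9a)) (evN false .one) = false := by decide +kernel
theorem k9b : Nat.beq (evN false (p19 (V [5] W9b))) (evN false .one) = true := by decide +kernel
theorem n9b : Nat.beq (evN false (V [5] W9b)) (evN false .one) = false := by decide +kernel

theorem prd_a : Prd x31 y19 (gTh 1) := by
  have := prd_of (t := [1]) (by decide) ka na
  rwa [show ev gTh [1] = gTh 1 from mul_one _] at this

theorem prd_X3 : Prd x31 y19 (ev gTh X3) := prd_of (by decide) k3 n3
theorem prd_X33 : Prd x31 y19 (ev gTh X33) := prd_of (by decide) k33 n33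
theorem prd_X333 : Prd x31 y19 (ev gTh X333) := prd_of (by decide) k333 n333
theorem prd_9a : Prd x31 y19 (ev gTh W9a) := prd_of (by decide) k9a n9a
theorem prd_9b : Prd x31 y19 (ev gTh W9b) := prd_of (by decide) k9b n9b

end Cfsg.Agent.H980.TC.Th
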