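import Cfsg.Agent.H980.Ore.PwTh
import Cfsg.Agent.H980.TC.ThPairs
import Cfsg.Agent.H980.TC.ThOne

/-!
# S4173 (and S2464), row `Th` (helper980)

`prd_th` : every `g ≠ 1` of the Thompson group is a product of a conjugate of `x31` (order 31) and a conjugate of `y19`
(order 19).
-/

set_option autoImplicit false
set_option maxRecDepth 100000

namespace Cfsg.Agent.H980.TC.Th

open Subgroup Cfsg Cfsg.Agent.H980.Ore.ThLoc Cfsg.Agent.H980.Ore.PwTh Cfsg.Agent.H980.Ore Cfsg.Agent.H65.Ore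
open Cfsg.Agent.Th.Base Cfsg.Agent.Th.Word Cfsg.Agent.Th.RelWords
  Cfsg.Agent.Th.CStruct Cfsg.Agent.Th.COracleDef Cfsg.Agent.Th.IndexUpper
open Cfsg.Agent.KFacts.Th.Mask Cfsg.Agent.KFacts.Th.Struct
open Cfsg.Agent.CpAutTh.Local Cfsg.Agent.CpAutTh.Data Cfsg.Agent.CpAutTh.Alt Cfsg.Agent.H723.Spor.ThMix

universe u

theorem prd_of_conj {G : Type*} [Group G] {x y g c : G} (h : Prd x y (c * g * c⁻¹)) : Prd x y g := by
  have h1 := h.conj c⁻¹
  rwa [show c⁻¹ * (c * g * c⁻¹) * c⁻¹⁻¹ = g by group] at h1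

section

variable {G : Type u} [Group G] {γ : ℕ → G} (h : Ctx γ)
  {π : Subgroup.centralizer ({γ 1} : Set G) →* alternatingGroup (Fin 9)}
  (D : Cfsg.Agent.KFacts.LargeSheet.Data (Q0 γ) (γ 1) (alternatingGroup (Fin 9)) π)
include h D

/-- the noncentral elements of `Q` have at least ten conjugates -/
theorem ten_mul {c : Subgroup.centralizer ({γ 1} : Set G)} (hc : c ∈ π.ker) (h1 : c ≠ 1) (h2 : c ≠ zz γ) :
    10 * Nat.card (centralizer ({c} : Set (Subgroup.centralizer ({γ 1} : Set G)))) ≤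
      Nat.card (Subgroup.centralizer ({γ 1} : Set G)) := by
  have hfin := h.fin
  have hz : ∀ g : Subgroup.centralizer ({γ 1} : Set G), g * zz γ = zz γ * g := (es D).central
  have hzz : zz γ * zz γ = 1 := (es D).sq
  -- `c` and `c z` are conjugate
  obtain ⟨q, hq⟩ : ∃ q : Subgroup.centralizer ({γ 1} : Set G), q * c * q⁻¹ = c * zz γ := by
    have : ∃ y ∈ π.ker, c * y ≠ y * c := by
      by_contra hno
      push Not at hno
      rcases (es D).nd _ hc (fun y hy => hno y hy) with e1 | e1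
      · exact h1 e1
      · exact h2 e1
    obtain ⟨y, hy, hne⟩ := this
    rcases (es D).comm c hc y hy with e | e
    · exact absurd e hne
    · refine ⟨y⁻¹, ?_⟩
      rw [inv_inv, mul_assoc, e]
      group
  have hqe : ∀ e : ℕ, q ^ e * c * (q ^ e)⁻¹ = c * zz γ ^ e := by
    intro e
    induction e with
    | zero => simp
    | succ e ih =>
      calc q ^ (e + 1) * c * (q ^ (e + 1))⁻¹ = q * (q ^ e * c * (q ^ e)⁻¹) * q⁻¹ := by rw [pow_succ']; group
        _ = (q * c * q⁻¹) * (q * zz γ ^ e * q⁻¹) := by rw [ih]; group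
        _ = c * zz γ * zz γ ^ e := by
            rw [hq, (Commute.pow_right (show Commute q (zz γ) from hz q) e).eq, mul_inv_cancel_right]
        _ = _ := by rw [pow_succ', mul_assoc]
  have key : ∀ (i e : ℕ) (d : Subgroup.centralizer ({γ 1} : Set G)), d * c = c * d →
      (yy h ^ i * q ^ e * d) * c * (yy h ^ i * q ^ e * d)⁻¹ = yy h ^ i * c * (yy h ^ i)⁻¹ * zz γ ^ e := by
    intro i e d hd
    calc (yy h ^ i * q ^ e * d) * c * (yy h ^ i * q ^ e * d)⁻¹
        = yy h ^ i * (q ^ e * (d * c * d⁻¹) * (q ^ e)⁻¹) * (yy h ^ i)⁻¹ := by group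
      _ = yy h ^ i * (c * zz γ ^ e) * (yy h ^ i)⁻¹ := by rw [hd, mul_inv_cancel_right, hqe]
      _ = (yy h ^ i * c) * (zz γ ^ e * (yy h ^ i)⁻¹) := by group
      _ = (yy h ^ i * c) * ((yy h ^ i)⁻¹ * zz γ ^ e) := by
          rw [(Commute.pow_right (show Commute (yy h ^ i)⁻¹ (zz γ) from hz _) e).eq]
      _ = _ := by group
  have h5 : ∀ n : ℕ, yy h ^ n = yy h ^ (n % 5) := by
    intro n
    conv_lhs => rw [← Nat.div_add_mod n 5, pow_add, pow_mul, yy_pow, one_pow, one_mul]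
  have hze : ∀ e : ℕ, zz γ ^ e = 1 ∨ zz γ ^ e = zz γ := by
    intro e
    induction e with
    | zero => left; rw [pow_zero]
    | succ e ih =>
      rcases ih with ih | ih
      · right; rw [pow_succ, ih, one_mul]
      · left; rw [pow_succ, ih, hzz]
  let F : (Fin 5 × Fin 2) × centralizer ({c} : Set (Subgroup.centralizer ({γ 1} : Set G))) →
      Subgroup.centralizer ({γ 1} : Set G) := fun p => yy h ^ (p.1.1 : ℕ) * q ^ (p.1.2 : ℕ) * p.2
  have hF : Function.Injective F := by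
    rintro ⟨⟨i, e⟩, d⟩ ⟨⟨j, f⟩, d'⟩ hp
    have hp' : yy h ^ (i : ℕ) * q ^ (e : ℕ) * (d : Subgroup.centralizer ({γ 1} : Set G)) =
        yy h ^ (j : ℕ) * q ^ (f : ℕ) * (d' : Subgroup.centralizer ({γ 1} : Set G)) := hp
    have k1 := key i e d (mem_centralizer_singleton_iff.1 d.2)
    have k2 := key j f d' (mem_centralizer_singleton_iff.1 d'.2)
    rw [hp', k2] at k1
    -- `i = j`
    have hij : i = j := by
      by_contra hne
      have hfx : Fx γ c (yy h ^ ((i : ℕ) + 4 * j)) := by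
        have e1 : yy h ^ ((i : ℕ) + 4 * j) = (yy h ^ (j : ℕ))⁻¹ * yy h ^ (i : ℕ) := by
          rw [eq_inv_mul_iff_mul_eq, ← pow_add, h5, h5 i]
          congr 1
          omega
        rw [Fx, e1]
        have e2 : (yy h ^ (j : ℕ))⁻¹ * yy h ^ (i : ℕ) * c * ((yy h ^ (j : ℕ))⁻¹ * yy h ^ (i : ℕ))⁻¹ =
            (yy h ^ (j : ℕ))⁻¹ * (yy h ^ (i : ℕ) * c * (yy h ^ (i : ℕ))⁻¹) * yy h ^ (j : ℕ) := by group
        have hzi : ∀ e : ℕ, (zz γ ^ e)⁻¹ = zz γ ^ e := by
          intro e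
          rcases hze e with h3 | h3 <;> rw [h3]
          · exact inv_one
          · exact inv_eq_of_mul_eq_one_left hzz
        have e3 : yy h ^ (i : ℕ) * c * (yy h ^ (i : ℕ))⁻¹ =
            yy h ^ (j : ℕ) * c * (yy h ^ (j : ℕ))⁻¹ * (zz γ ^ (f : ℕ) * zz γ ^ (e : ℕ)) := by
          have := congrArg (fun t => t * (zz γ ^ (e : ℕ))⁻¹) k1
          simp only [mul_inv_cancel_right] at this
          rw [← this, hzi, mul_assoc]
        have e4 : (yy h ^ (j : ℕ))⁻¹ * (yy h ^ (j : ℕ) * c * (yy h ^ (j : ℕ))⁻¹ * (zz γ ^ (f : ℕ) * zz γ ^ (e : ℕ))) *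
            yy h ^ (j : ℕ) = c * (zz γ ^ (f : ℕ) * zz γ ^ (e : ℕ)) := by
          have hc1 : Commute (yy h ^ (j : ℕ)) (zz γ ^ (f : ℕ) * zz γ ^ (e : ℕ)) :=
            (Commute.pow_right (hz _) _).mul_right (Commute.pow_right (hz _) _)
          calc (yy h ^ (j : ℕ))⁻¹ * (yy h ^ (j : ℕ) * c * (yy h ^ (j : ℕ))⁻¹ * (zz γ ^ (f : ℕ) * zz γ ^ (e : ℕ))) *
              yy h ^ (j : ℕ) = c * (yy h ^ (j : ℕ))⁻¹ * ((zz γ ^ (f : ℕ) * zz γ ^ (e : ℕ)) * yy h ^ (j : ℕ)) := by group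
            _ = c * (yy h ^ (j : ℕ))⁻¹ * (yy h ^ (j : ℕ) * (zz γ ^ (f : ℕ) * zz γ ^ (e : ℕ))) := by rw [hc1.eq]
            _ = _ := by group
        rw [e2, e3, e4, ← pow_add]
        rcases hze ((f : ℕ) + e) with h3 | h3 <;> rw [h3]
        · left; rw [mul_one]
        · right; rfl
      -- hence `yy` fixes `c`
      obtain ⟨m, hm⟩ : ∃ m : ℕ, (((i : ℕ) + 4 * j) * m) % 5 = 1 := by
        have key2 : ∀ i j : Fin 5, i ≠ j → ∃ m < 5, (((i : ℕ) + 4 * j) * m) % 5 = 1 := by decide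
        obtain ⟨m, -, hm⟩ := key2 i j hne
        exact ⟨m, hm⟩
      have hfx2 := Fx.pow D hfx m
      rw [← pow_mul, h5, hm, pow_one] at hfx2
      rcases yy_fpf h D hc hfx2 with h3 | h3
      · exact h1 h3
      · exact h2 h3
    subst hij
    have hef : zz γ ^ (f : ℕ) = zz γ ^ (e : ℕ) := mul_left_cancel k1
    have hef' : e = f := by
      have hne : zz γ ≠ 1 := (es D).ne
      fin_cases e <;> fin_cases f <;> simp_all
    subst hef'
    have hd : d = d' := Subtype.ext (mul_left_cancel hp')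
    rw [hd]
  have h3 := Nat.card_le_card_of_injective F hF
  rwa [Nat.card_prod, Nat.card_prod, Nat.card_fin, Nat.card_fin] at h3

end

/-! ### involutions -/

theorem prd_inv {i : Spor.Th} (hi : orderOf i = 2) : Prd x31 y19 i := by
  obtain ⟨t, ht⟩ := isConj_iff.1 (MonsterX.ThOneClass.oneClass i (gTh 1) hi MonsterX.ThOneClass.orderOf_a)
  refine prd_of_conj (c := t) ?_
  rw [ht]
  exact prd_a

theorem prd_card {g : Spor.Th} (hg : Nat.card (centralizer ({g} : Set Spor.Th)) ≤ 14019231) : Prd x31 y19 g :=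
  prd_of_card order_x order_y hg

/-- elements of even order -/
theorem prd_even {g : Spor.Th} (hg : 2 ∣ orderOf g) : Prd x31 y19 g := by
  have hfin : Finite Spor.Th := H174.Ore.Th.finite
  obtain ⟨k, hk⟩ : ∃ k, orderOf (g ^ k) = 2 := ⟨_, orderOf_pow_orderOf_div (orderOf_pos g).ne' hg⟩
  obtain ⟨t, ht⟩ := isConj_iff.1 (MonsterX.ThOneClass.oneClass (g ^ k) (gTh 1) hk MonsterX.ThOneClass.orderOf_a)
  refine prd_of_conj (c := t) ?_
  have hk' : (t * g * t⁻¹) ^ k = gTh 1 := by rw [← ht, conj_pow]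
  generalize t * g * t⁻¹ = y at hk' ⊢
  have hyz : y * gTh 1 = gTh 1 * y := by rw [← hk']; exact ((Commute.refl y).pow_right k).eq
  have hyC : y ∈ Subgroup.centralizer ({gTh 1} : Set Spor.Th) := Subgroup.mem_centralizer_singleton_iff.2 hyz
  obtain ⟨π, D⟩ := Cfsg.Agent.KFacts.Th.Main.exists_data Cfsg.Agent.KFacts.Th.Main.ctx
  have hle : Nat.card (centralizer ({y} : Set Spor.Th)) ≤ Nat.card (centralizer
      ({(⟨y, hyC⟩ : Subgroup.centralizer ({gTh 1} : Set Spor.Th))} : Set (Subgroup.centralizer ({gTh 1} : Set Spor.Th)))) := by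
    refine Nat.card_le_card_of_injective (fun c => ⟨⟨(c : Spor.Th), ?_⟩, ?_⟩) ?_
    · rw [Subgroup.mem_centralizer_singleton_iff, ← hk']
      have h1 : Commute (c : Spor.Th) y := mem_centralizer_singleton_iff.1 c.2
      exact (h1.pow_right k).eq
    · exact mem_centralizer_singleton_iff.2 (Subtype.ext (mem_centralizer_singleton_iff.1 c.2))
    · intro a b hab
      have h1 : (a : Spor.Th) = b := by simpa using hab
      exact Subtype.ext h1
  by_cases hker : (⟨y, hyC⟩ : Subgroup.centralizer ({gTh 1} : Set Spor.Th)) ∈ π.ker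
  · by_cases hz : (⟨y, hyC⟩ : Subgroup.centralizer ({gTh 1} : Set Spor.Th)) = zz gTh
    · have h1 : y = gTh 1 := congrArg Subtype.val hz
      rw [h1]
      exact prd_a
    · have hy1 : (⟨y, hyC⟩ : Subgroup.centralizer ({gTh 1} : Set Spor.Th)) ≠ 1 := by
        intro h1
        have h2 : y = 1 := congrArg Subtype.val h1
        rw [h2, one_pow] at hk'
        have h3 := MonsterX.ThOneClass.orderOf_a
        rw [← hk', orderOf_one] at h3
        norm_num at h3
      have h3 := ten_mul Cfsg.Agent.KFacts.Th.Main.ctx D hker hy1 hz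
      rw [MonsterX.ThOneClass.card_a] at h3
      exact prd_card (by omega)
  · exact prd_card (hle.trans ((card_cent_le Cfsg.Agent.KFacts.Th.Main.ctx D hker).trans (by norm_num)))

/-! ### elements of odd order -/

section

variable {f : sub gTh isC →* alternatingGroup (Fin 9)} (F : Epi gTh f)
include F

omit F in
theorem prd_of' {X : List ℕ} (hX : ∀ x ∈ X, isC x = true) (hp : Prd x31 y19 (ev gTh X)) {x : sub gTh isC}
    (hx : ∃ g : sub gTh isC, g * x * g⁻¹ = ⟨ev gTh X, ev_mem_sub hX⟩) : Prd x31 y19 (x : Spor.Th) := by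
  obtain ⟨g, hg⟩ := hx
  have h1 : (g : Spor.Th) * x * (g : Spor.Th)⁻¹ = ev gTh X := congrArg Subtype.val hg
  rw [← h1] at hp
  exact prd_of_conj hp

theorem prd_three {x : sub gTh isC} (hx : orderOf x = 3) : Prd x31 y19 (x : Spor.Th) := by
  obtain ⟨g, h1⟩ := exists_rep_three Cfsg.Agent.KFacts.Th.Main.ctx F hx
  rcases h1 with h1 | h1 | h1
  · exact prd_of' c3 prd_X3 ⟨g, h1⟩
  · exact prd_of' c33 prd_X33 ⟨g, h1⟩
  · exact prd_of' c333 prd_X333 ⟨g, h1⟩

theorem prd_nine {x : sub gTh isC} (hx : orderOf x = 9)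
    (ht : ((f x : alternatingGroup (Fin 9)) : Equiv.Perm (Fin 9)).cycleType = {9}) : Prd x31 y19 (x : Spor.Th) := by
  have h := Cfsg.Agent.KFacts.Th.Main.ctx
  have := finC h
  obtain ⟨σ, hσ⟩ := isConj_iff.1 (Equiv.Perm.isConj_iff_cycleType_eq.2 (ht.trans t9a.symm))
  have key : ∀ (X : List ℕ) (hX : ∀ x ∈ X, isC x = true) (h1 : corc (pw X 9) = true)
      (h2 : (pm9 X).cycleType = {9}) (π : Equiv.Perm (Fin 9)) (hπ : Equiv.Perm.sign π = 1)
      (hc : π * ((f x : alternatingGroup (Fin 9)) : Equiv.Perm (Fin 9)) * π⁻¹ = pm9 X),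
      ∃ g : sub gTh isC, g * x * g⁻¹ = ⟨ev gTh X, ev_mem_sub hX⟩ := by
    intro X hX h1 h2 π hπ hc
    obtain ⟨k, hk⟩ := F.surj ⟨π, Equiv.Perm.mem_alternatingGroup.2 hπ⟩
    have h3 : f (k * x * k⁻¹) = f ⟨ev gTh X, ev_mem_sub hX⟩ := by
      apply Subtype.ext
      rw [F.word X hX, ← hc, map_mul, map_mul, map_inv, hk]
      rfl
    have h4 : orderOf (k * x * k⁻¹) = 3 ^ 2 := by
      rw [show (3 ^ 2 : ℕ) = 9 by norm_num, ← hx]
      exact MulEquiv.orderOf_eq (MulAut.conj k) x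
    obtain ⟨q, hq⟩ := conj_of_quot Nat.prime_two Nat.prime_three (by norm_num) f (ker_two h F) h4
      (order9 h F hX h1 h2) h3
    refine ⟨q * k, ?_⟩
    rw [← hq]
    group
  rcases Int.units_eq_one_or (Equiv.Perm.sign σ) with h1 | h1
  · exact prd_of' c9a prd_9a (key W9a c9a PwTh.k9a t9a σ h1 hσ)
  · refine prd_of' c9b prd_9b (key W9b c9b PwTh.k9b t9b (tau * σ) ?_ ?_)
    · rw [map_mul, h1, tau_sign]; decide
    · have h2 : tau * pm9 W9a * tau⁻¹ = pm9 W9b := by rw [tau_conj, mul_inv_cancel_right]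
      rw [← h2, ← hσ]
      group

end

/-- elements over an element of order 5 or 7 -/
theorem prd_five_seven {g : Spor.Th} {p : ℕ} (hp : p = 5 ∨ p = 7) (hd : p ∣ orderOf g) : Prd x31 y19 g := by
  have hfin : Finite Spor.Th := H174.Ore.Th.finite
  have ho : orderOf (g ^ (orderOf g / p)) = p := orderOf_pow_orderOf_div (orderOf_pos g).ne' hd
  have hle : Nat.card (centralizer ({g} : Set Spor.Th)) ≤ Nat.card (centralizer ({g ^ (orderOf g / p)} : Set Spor.Th)) := by
    apply Subgroup.card_le_of_le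
    intro c hc
    have h2 : Commute c g := mem_centralizer_singleton_iff.1 hc
    exact mem_centralizer_singleton_iff.2 (h2.pow_right _).eq
  apply prd_card
  refine hle.trans ?_
  rcases hp with rfl | rfl
  · obtain ⟨_, x', y', z', a', D⟩ := H49.ThFive.exists_dat
    obtain ⟨w, hw⟩ := D.all ho
    have h2 : Nat.card (centralizer ({g ^ (orderOf g / 5)} : Set Spor.Th)) = Nat.card (centralizer ({z'} : Set Spor.Th)) :=
      (Cfsg.Agent.Blocks.SylowIn.card_centralizer_of_isConj (isConj_iff.2 ⟨w, hw⟩)).symm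
    rw [h2, D.card_C]
    norm_num
  · rw [Cfsg.Agent.H468.PW.ThP.card_cent ho]
    norm_num

/-- elements of odd order which commute with an involution -/
theorem prd_odd {g i : Spor.Th} (hg1 : g ≠ 1) (hi : orderOf i = 2) (hgi : g * i = i * g) (hg : ¬ 2 ∣ orderOf g) :
    Prd x31 y19 g := by
  have hfin : Finite Spor.Th := H174.Ore.Th.finite
  by_cases h5 : 5 ∣ orderOf g
  · exact prd_five_seven (Or.inl rfl) h5
  by_cases h7 : 7 ∣ orderOf g
  · exact prd_five_seven (Or.inr rfl) h7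
  obtain ⟨t, ht⟩ := isConj_iff.1 (MonsterX.ThOneClass.oneClass i (gTh 1) hi MonsterX.ThOneClass.orderOf_a)
  refine prd_of_conj (c := t) ?_
  have hy : (t * g * t⁻¹) * gTh 1 = gTh 1 * (t * g * t⁻¹) := by
    rw [← ht]
    calc t * g * t⁻¹ * (t * i * t⁻¹) = t * (g * i) * t⁻¹ := by group
      _ = t * (i * g) * t⁻¹ := by rw [hgi]
      _ = _ := by group
  have ho : orderOf (t * g * t⁻¹) = orderOf g := MulEquiv.orderOf_eq (MulAut.conj t) g
  have hne : t * g * t⁻¹ ≠ 1 := fun h => hg1 (by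
    have h1 : t * g = t := by rw [mul_inv_eq_one] at h; exact h
    exact mul_eq_left.1 h1)
  rw [← ho] at hg h5 h7
  generalize t * g * t⁻¹ = y at hy hg hne h5 h7 ⊢
  have h := Cfsg.Agent.KFacts.Th.Main.ctx
  obtain ⟨f, F⟩ := exists_epi h
  have hyC : y ∈ sub gTh isC := h.mem_C.2 hy
  obtain ⟨x, hx⟩ : ∃ x : sub gTh isC, (x : Spor.Th) = y := ⟨⟨y, hyC⟩, rfl⟩
  rw [← hx, Subgroup.orderOf_coe] at hg h5 h7
  rw [← hx] at hne
  rw [← hx]
  -- the order of the image
  have hof : orderOf (f x) = orderOf x := by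
    apply Nat.dvd_antisymm (orderOf_map_dvd f x)
    apply orderOf_dvd_of_pow_eq_one
    have h1 : x ^ orderOf (f x) ∈ f.ker := by rw [MonoidHom.mem_ker, map_pow, pow_orderOf_eq_one]
    obtain ⟨n, hn⟩ := (ker_two h F) ⟨_, h1⟩
    have h2 : (x ^ orderOf (f x)) ^ 2 ^ n = 1 := congrArg Subtype.val hn
    have h3 := orderOf_dvd_of_pow_eq_one h2
    have h4 : orderOf (x ^ orderOf (f x)) ∣ orderOf x := orderOf_pow_dvd _
    have h5 : (orderOf x).Coprime (2 ^ n) :=
      Nat.Coprime.pow_right n ((Nat.Prime.coprime_iff_not_dvd Nat.prime_two).2 hg).symm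
    have h6 := Nat.Coprime.eq_one_of_dvd (Nat.Coprime.of_dvd_left h4 h5) h3
    exact orderOf_eq_one_iff.1 h6
  by_cases hf1 : f x = 1
  · rw [hf1, orderOf_one] at hof
    exact absurd (by rw [orderOf_eq_one_iff.1 hof.symm]; rfl) hne
  obtain ⟨l, hl, ht⟩ := exists_type (f x) hf1
  have hol : orderOf x = Multiset.lcm (l : Multiset ℕ) := by
    rw [← hof, ← Subgroup.orderOf_coe, ← Equiv.Perm.lcm_cycleType, ht]
  simp only [Cfsg.Agent.H683.Ore.A9.types, List.mem_cons, List.not_mem_nil, or_false] at hl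
  rcases hl with rfl | rfl | rfl | rfl | rfl | rfl | rfl | rfl | rfl | rfl | rfl | rfl | rfl | rfl | rfl
  · exact absurd (hol ▸ (by decide : 2 ∣ Multiset.lcm (([2, 2] : List ℕ) : Multiset ℕ))) hg
  · exact absurd (hol ▸ (by decide : 2 ∣ Multiset.lcm (([2, 2, 2, 2] : List ℕ) : Multiset ℕ))) hg
  · exact prd_three F (hol.trans (by decide))
  · exact absurd (hol ▸ (by decide : 2 ∣ Multiset.lcm (([3, 2, 2] : List ℕ) : Multiset ℕ))) hg
  · exact prd_three F (hol.trans (by decide))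
  · exact prd_three F (hol.trans (by decide))
  · exact absurd (hol ▸ (by decide : 2 ∣ Multiset.lcm (([4, 2] : List ℕ) : Multiset ℕ))) hg
  · exact absurd (hol ▸ (by decide : 2 ∣ Multiset.lcm (([4, 3, 2] : List ℕ) : Multiset ℕ))) hg
  · exact absurd (hol ▸ (by decide : 2 ∣ Multiset.lcm (([4, 4] : List ℕ) : Multiset ℕ))) hg
  · exact absurd (by rw [hol]; decide) h5
  · exact absurd (hol ▸ (by decide : 2 ∣ Multiset.lcm (([5, 2, 2] : List ℕ) : Multiset ℕ))) hg
  · exact absurd (by rw [hol]; decide) h5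
  · exact absurd (hol ▸ (by decide : 2 ∣ Multiset.lcm (([6, 2] : List ℕ) : Multiset ℕ))) hg
  · exact absurd (by rw [hol]; decide) h7
  · exact prd_nine F (hol.trans (by decide)) ht

/-- **Every `g ≠ 1` of the Thompson group is a product of a conjugate of `x31` and a conjugate of `y19`.** -/
theorem prd_th {g : Spor.Th} (hg : g ≠ 1) : Prd x31 y19 g := by
  have := H174.Ore.Th.finite
  by_cases hodd : Odd (Nat.card (centralizer ({g} : Set Spor.Th)))
  · exact prd_card (by have := ThRow.bound hg hodd; omega)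
  rw [Nat.not_odd_iff_even, even_iff_two_dvd] at hodd
  by_cases h2 : 2 ∣ orderOf g
  · exact prd_even h2
  · obtain ⟨i, hiF, hi⟩ := H502.TO.exists_of_dvd Nat.prime_two hodd
    exact prd_odd hg hi (mem_centralizer_singleton_iff.1 hiF).symm h2

/-- **the row, with elements of orders 31 and 19** -/
theorem exists_th {S : Type u} [Group S] (h : Spor.IsoTh S) : ∃ x y : S, orderOf x = 31 ∧ orderOf y = 19 ∧
    ∀ g : S, g ≠ 1 → ∃ u v : S, g = (u * x * u⁻¹) * (v * y * v⁻¹) := by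
  obtain ⟨e⟩ := h
  refine ⟨e.symm x31, e.symm y19, by rw [MulEquiv.orderOf_eq]; exact order_x, by rw [MulEquiv.orderOf_eq]; exact order_y,
    fun g hg => ?_⟩
  obtain ⟨u, v, h1⟩ := prd_th (g := e g) fun h1 => hg (e.injective (by rw [h1, map_one]))
  refine ⟨e.symm u, e.symm v, e.injective ?_⟩
  rw [h1]
  simp

/-- **S2464, row `Th`** -/
theorem tc6_th {S : Type u} [Group S] (h : Spor.IsoTh S) : ∃ x y : S, Nat.Coprime (orderOf x) 6 ∧
    Nat.Coprime (orderOf y) 6 ∧ ∀ g : S, g ≠ 1 → ∃ u v : S, g = (u * x * u⁻¹) * (v * y * v⁻¹) := by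
  obtain ⟨x, y, hx, hy, hp⟩ := exists_th h
  exact ⟨x, y, by rw [hx]; decide, by rw [hy]; decide, hp⟩

end Cfsg.Agent.H980.TC.Th
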