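import Cfsg.Agent.H980.TC.ThTC
import Cfsg.Agent.H140.TC.Fam

/-!
# S4173, row `Th` (helper980)
-/

set_option autoImplicit false

namespace Cfsg.Agent.H980.TC

open Cfsg

universe u

/-- **S4173, row `Th`** -/
theorem tc_th {S : Type u} [Group S] (h : Spor.IsoTh S) : Cfsg.Agent.H140.TC.TC S := by
  obtain ⟨x, y, -, -, hp⟩ := Th.exists_th h
  exact ⟨x, y, hp⟩

end Cfsg.Agent.H980.TC
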